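import Mathlib
import Cfsg.Agent.Lib.CosetTable.Check

/-! Generated certificate data for the coset table `SuzG2SimpleMax1`. -/

namespace Cfsg.Agent.Lib.CosetTable.SuzG2SimpleMax1

open Cfsg.Agent.Lib.CosetTable

set_option maxRecDepth 10000

noncomputable def facts : T := .leaf 0x500000400000600000000002600000400002500000400006500000c00002600000800004300000800004400000400002400000400002300000400002200000c00006500000800004500000c00006300000800006200000400004100000000002500000000000400000000000300000000000200000000000100000000000000000000000c00000000000b00000000000a000000000009000000000008000000000007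

noncomputable def defs : T := .leaf 0x42000000000021000000000005000000000000

noncomputable def nodeT : ℕ := 0x0

noncomputable def parT : ℕ := 0x0

noncomputable def perm0 : ℕ := 0x0

noncomputable def eid0 : ℕ := 0x6

noncomputable def perm1 : ℕ := 0x0

noncomputable def eid1 : ℕ := 0x7

noncomputable def perm2 : ℕ := 0x0

noncomputable def eid2 : ℕ := 0x8

noncomputable def perm3 : ℕ := 0x0

noncomputable def eid3 : ℕ := 0x9

noncomputable def perm4 : ℕ := 0x0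

noncomputable def eid4 : ℕ := 0xa

noncomputable def perm5 : ℕ := 0x0

noncomputable def eid5 : ℕ := 0x1b

noncomputable def rulesT : RT := .node (.node (.node (.node (.node (.leaf 0 [7] 48 0) (.leaf 6 [] 0 0)) (.node (.leaf 2 [5, 2, 5] 14 1) (.leaf 6 [] 0 0))) (.node (.node (.leaf 4 [11] 52 0) (.leaf 6 [] 0 0)) (.node (.leaf 3 [1, 3, 1] 8 0) (.leaf 6 [] 0 0)))) (.node (.node (.node (.leaf 2 [9] 50 0) (.leaf 6 [] 0 0)) (.node (.leaf 4 [5, 4, 5] 19 1) (.leaf 6 [] 0 0))) (.node (.node (.leaf 5 [1, 5, 1, 5, 1] 10 0) (.leaf 6 [] 0 0)) (.node (.leaf 5 [5] 0 0) (.leaf 6 [] 0 0))))) (.node (.node (.node (.node (.leaf 1 [8] 49 0) (.leaf 6 [] 0 0)) (.node (.leaf 3 [5, 3, 5] 17 1) (.leaf 6 [] 0 0))) (.node (.node (.leaf 3 [2, 1, 5, 12, 5, 1, 2] 53 5) (.leaf 6 [] 0 0)) (.node (.leaf 6 [2, 3, 4, 1, 2, 3, 2, 3, 1, 2, 3, 2, 3, 1, 2, 3, 2, 3, 1, 2, 3, 2, 3, 1, 2, 3, 2, 3,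 4, 1, 2, 3, 2, 3, 1, 2, 3, 2, 3, 1, 2, 3, 2, 3, 1, 2, 3, 2, 3, 1, 2, 3, 2, 3, 4, 1, 2, 3, 2, 3, 1, 2, 3, 2, 3, 1, 2, 3, 2, 3, 1, 2, 3, 2, 3, 1, 2, 3] 23 23) (.leaf 6 [] 0 0)))) (.node (.node (.node (.leaf 3 [10] 51 0) (.leaf 6 [] 0 0)) (.node (.leaf 4 [1, 4, 1] 9 0) (.leaf 6 [] 0 0))) (.node (.node (.leaf 5 [2, 5, 2] 14 0) (.leaf 6 [] 0 0)) (.node (.leaf 6 [5, 5] 20 0) (.leaf 6 [] 0 0)))))

noncomputable def relsL : List (List ℕ) := [[0, 0],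
  [0, 1, 0, 1, 0, 1, 0, 1, 0, 1],
  [0, 2, 0, 2],
  [0, 3, 0, 3],
  [0, 4, 0, 4],
  [0, 5, 0, 5],
  [1, 1],
  [1, 2, 1, 2, 1, 2],
  [1, 3, 1, 3],
  [1, 4, 1, 4],
  [1, 5, 1, 5, 1, 5],
  [2, 2],
  [2, 3, 2, 3, 2, 3, 2, 3, 2, 3, 2, 3, 2, 3, 2, 3],
  [2, 4, 2, 4],
  [2, 5, 2, 5],
  [3, 3],
  [3, 4, 3, 4, 3, 4],
  [3, 5, 3, 5],
  [4, 4],
  [4, 5, 4, 5],
  [5, 5],
  [0, 3, 2, 3, 2, 3, 2, 3, 2],
  [0, 1, 2, 5, 0, 1, 2, 5, 0, 1, 2, 5, 0, 1, 2, 5, 0, 1, 2, 5],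
  [1, 2, 3, 2, 3, 1, 2, 3, 2, 3, 1, 2, 3, 2, 3, 1, 2, 3, 2, 3, 1, 2, 3, 2, 3, 4, 1, 2, 3, 2, 3, 1, 2, 3, 2, 3, 1, 2, 3, 2, 3, 1, 2, 3, 2, 3, 1, 2, 3, 2, 3, 4, 1, 2, 3, 2, 3, 1, 2, 3, 2, 3, 1, 2, 3, 2, 3, 1, 2, 3, 2, 3, 1, 2, 3, 2, 3, 4]]

noncomputable def subsL : List (List ℕ) := [[0],
  [1],
  [2],
  [3],
  [4],
  [5, 1, 2, 3, 2, 1, 5]]

noncomputable def cert : Cert where
  k := 6
  rels := relsL
  subs := subsL
  rules := rulesT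
  facts := facts
  defs := defs

noncomputable def tab : Table where
  n := 1
  k := 6
  node := nodeT
  perms := [perm0, perm1, perm2, perm3, perm4, perm5]
  eids := [eid0, eid1, eid2, eid3, eid4, eid5]
  par := parT

end Cfsg.Agent.Lib.CosetTable.SuzG2SimpleMax1
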