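import Cfsg.Agent.Lib.CosetTable.Sound
import Cfsg.Agent.Lib.CosetTable.SuzG2SimpleMax1.Data

/-! Generated certificate data for the coset table `SuzG2SimpleMax1`. -/

namespace Cfsg.Agent.Lib.CosetTable.SuzG2SimpleMax1

open Cfsg.Agent.Lib.CosetTable

noncomputable def streams0 : List (ℕ × ℕ) := [(28, 0x3400001600000200001000003300000100001200003100001600000200001100002c00002e00000200001000002000002d00000200001000002500002300001900002b00001b00001d00001a00001800002500002300002500002300001900002b00001b00001d00001a00001800002500002300002500002300001900002900002b00001b00001d00001a00001800002500002300002500002300001900002b00001b00001d00001a00001800002500002300002500002300001900002b00001b00001d00001a00001800002700002500002300002500002300001900002b00001b00001d00001a00001800002500002300002500002300001900002b00001b00001d00001a00001800002500002300002500002300001900002900002b00001b00004e00000f00001800002500001900000300000e00001800002700001900000300000d00001600001400001700000300000c00001600001200001700000300000b00001600001000001700000300000a00001a00001f00001b00000300000900001800001600000e00001700001900000500000800001a00001800001600000a00001700001900001b000007000007000000000000000000000000000000000000000008000001000006000006000001000005000004000001000004000002000001000003000000000001000002000000000001000000000001000000000001000000000001000000000001000000000001)]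

theorem run0 : cert.goStreams streams0 0 = true := by decide +kernel

theorem part1 (h : cert.Upto 0) : cert.Upto 28 :=
  (h).step (b := 28) run0 rfl

end Cfsg.Agent.Lib.CosetTable.SuzG2SimpleMax1
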